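import Groth.Agent.PullbackMod.Sections
import Groth.Agent.GenBCLib.PullOn

/-! Bases of sections of modules over an open, and their inverse images. -/

set_option autoImplicit false
set_option backward.isDefEq.respectTransparency false
set_option linter.style.haveILetI false

universe u

open CategoryTheory CategoryTheory.Limits AlgebraicGeometry TopologicalSpace Opposite
open Groth.Agent.CohBase Groth.Agent.PullbackMod Groth.Agent.GenBCLib
open scoped TensorProduct

noncomputable section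

namespace Groth.Agent.FlatDescHomLib

variable {X Y : Scheme.{u}}

/-- Restriction of sections. -/
abbrev rs (N : X.Modules) {U V : X.Opens} (h : V ≤ U) (s : Γ(N, U)) : Γ(N, V) := N.presheaf.map (homOfLE h).op s

theorem rs_smul (N : X.Modules) {U V : X.Opens} (h : V ≤ U) (a : Γ(X, U)) (s : Γ(N, U)) :
    rs N h (a • s) = X.presheaf.map (homOfLE h).op a • rs N h s := N.val.map_smul (homOfLE h).op a s

theorem rs_rs (N : X.Modules) {U V W : X.Opens} (h : V ≤ U) (h' : W ≤ V) (s : Γ(N, U)) :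
    rs N h' (rs N h s) = rs N (h'.trans h) s := restr_trans N h h' s

theorem rs_sum (N : X.Modules) {U V : X.Opens} (h : V ≤ U) {ι : Type*} [Fintype ι] (c : ι → Γ(X, U)) (s : ι → Γ(N, U)) :
    rs N h (∑ i, c i • s i) = ∑ i, X.presheaf.map (homOfLE h).op (c i) • rs N h (s i) :=
  (map_sum _ _ _).trans (Finset.sum_congr rfl fun i _ => rs_smul N h (c i) (s i))

theorem sec_ext (N : X.Modules) {V : X.Opens} {s t : Γ(N, V)}
    (h : ∀ x ∈ V, ∃ (W : X.Opens) (hW : W ≤ V), x ∈ W ∧ rs N hW s = rs N hW t) : s = t := by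
  choose W hW hx he using h
  refine TopCat.Sheaf.eq_of_locally_eq' ⟨N.presheaf, N.isSheaf⟩ (fun x : V => W x.1 x.2) V
    (fun x => homOfLE (hW x.1 x.2)) ?_ s t fun x => he x.1 x.2
  intro x hxV
  exact Opens.mem_iSup.2 ⟨⟨x, hxV⟩, hx x hxV⟩

/-- `b` is a basis of the sections of `N` over every open contained in `W`. -/
def BasisOn (N : X.Modules) (W : X.Opens) {n : ℕ} (b : Fin n → Γ(N, W)) : Prop :=
  ∀ (V : X.Opens) (h : V ≤ W), Function.Bijective fun c : Fin n → Γ(X, V) => ∑ i, c i • rs N h (b i)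

variable {N : X.Modules} {W : X.Opens} {n : ℕ} {b : Fin n → Γ(N, W)}

theorem basisOn_of_affine
    (hb : ∀ (V : X.Opens), IsAffineOpen V → ∀ h : V ≤ W,
      Function.Bijective fun c : Fin n → Γ(X, V) => ∑ i, c i • rs N h (b i)) :
    BasisOn N W b := by
  have hres : ∀ {U V : X.Opens} (hU : U ≤ W) (h : V ≤ U) (c : Fin n → Γ(X, U)),
      rs N h (∑ i, c i • rs N hU (b i)) = ∑ i, X.presheaf.map (homOfLE h).op (c i) • rs N (h.trans hU) (b i) :=
    fun hU h c => (rs_sum N h c _).trans (Finset.sum_congr rfl fun i _ => by rw [rs_rs])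
  have hinj : ∀ (V : X.Opens) (h : V ≤ W),
      Function.Injective fun c : Fin n → Γ(X, V) => ∑ i, c i • rs N h (b i) := by
    intro V h c c' e
    funext i
    have hx : ∀ x ∈ V, ∃ (A : X.Opens), IsAffineOpen A ∧ x ∈ A ∧ A ≤ V := fun x hx => by
      obtain ⟨A, hA, hxA, hAV⟩ := exists_isAffineOpen_mem_and_subset (x := x) (U := V) hx
      exact ⟨A, hA, hxA, hAV⟩
    choose A hA hxA hAV using hx
    refine X.sheaf.eq_of_locally_eq' (fun x : V => A x.1 x.2) V (fun x => homOfLE (hAV x.1 x.2))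
      (fun x hxV => Opens.mem_iSup.2 ⟨⟨x, hxV⟩, hxA x hxV⟩) (c i) (c' i) fun x => ?_
    have e' := congrArg (rs N (hAV x.1 x.2)) e
    rw [hres, hres] at e'
    exact congrFun ((hb _ (hA x.1 x.2) ((hAV x.1 x.2).trans h)).1 e') i
  refine fun V h => ⟨hinj V h, fun t => ?_⟩
  have hx : ∀ x : V, ∃ (A : X.Opens), IsAffineOpen A ∧ x.1 ∈ A ∧ A ≤ V := fun x => by
    obtain ⟨A, hA, hxA, hAV⟩ := exists_isAffineOpen_mem_and_subset (x := x.1) (U := V) x.2
    exact ⟨A, hA, hxA, hAV⟩
  choose A hA hxA hAV using hx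
  choose c hc using fun x : V => (hb (A x) (hA x) ((hAV x).trans h)).2 (rs N (hAV x) t)
  have hcov : V ≤ iSup A := fun x hxV => Opens.mem_iSup.2 ⟨⟨x, hxV⟩, hxA _⟩
  have hcompat : ∀ i, TopCat.Presheaf.IsCompatible X.sheaf.obj A fun x => c x i := by
    intro i x y
    refine congrFun (hinj (A x ⊓ A y) ((inf_le_left.trans (hAV x)).trans h)
      (a₁ := fun i => X.presheaf.map (homOfLE inf_le_left).op (c x i))
      (a₂ := fun i => X.presheaf.map (homOfLE inf_le_right).op (c y i)) ?_) i
    have e1 := congrArg (rs N (inf_le_left (b := A y))) (hc x)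
    have e2 := congrArg (rs N (inf_le_right (a := A x))) (hc y)
    rw [hres, rs_rs] at e1 e2
    exact e1.trans e2.symm
  choose g hg hguniq using fun i => X.sheaf.existsUnique_gluing' A V (fun x => homOfLE (hAV x)) hcov _ (hcompat i)
  refine ⟨g, sec_ext N fun x hxV => ⟨A ⟨x, hxV⟩, hAV _, hxA _, ?_⟩⟩
  rw [hres]
  refine Eq.trans ?_ (hc ⟨x, hxV⟩)
  exact Finset.sum_congr rfl fun i _ => congrArg (· • _) (hg i ⟨x, hxV⟩)

theorem BasisOn.map_iso (hb : BasisOn N W b) {N' : X.Modules} (e : N ≅ N') :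
    BasisOn N' W fun i => e.hom.app W (b i) := by
  intro V h
  have key : (fun c : Fin n → Γ(X, V) => ∑ i, c i • rs N' h (e.hom.app W (b i))) =
      e.hom.app V ∘ fun c : Fin n → Γ(X, V) => ∑ i, c i • rs N h (b i) := by
    funext c
    refine Eq.trans ?_ (map_sum (e.hom.app V).hom _ _).symm
    refine Finset.sum_congr rfl fun i _ => ?_
    exact (congrArg (c i • ·) (appRes e.hom h (b i)).symm).trans (Scheme.Modules.Hom.app_smul e.hom (c i) _).symm
  rw [key]
  exact (ConcreteCategory.bijective_of_isIso (e.hom.app V)).comp (hb V h)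

/-- The inverse image of a basis over an affine open is a basis. -/
theorem basisOn_pullMap (g : X ⟶ Y) (M : Y.Modules) [Coh.IsQCoh M] {D : Y.Opens} (hD : IsAffineOpen D)
    (b : Module.Basis (Fin n) Γ(Y, D) Γ(M, D)) :
    BasisOn ((Scheme.Modules.pullback g).obj M) (g ⁻¹ᵁ D) fun i => pullMap g M le_rfl (b i) := by
  refine basisOn_of_affine fun V hV h => ?_
  letI : Algebra Γ(Y, D) Γ(X, V) := (g.appLE D V h).hom.toAlgebra
  letI := Module.compHom Γ((Scheme.Modules.pullback g).obj M, V) (g.appLE D V h).hom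
  haveI : IsScalarTower Γ(Y, D) Γ(X, V) Γ((Scheme.Modules.pullback g).obj M, V) := .of_algebraMap_smul fun _ _ => rfl
  have hbc := isBaseChange_pullMapL g M hD hV h
  let b' := (b.baseChange Γ(X, V)).map hbc.equiv
  have key : ∀ i, b' i = rs _ h (pullMap g M le_rfl (b i)) := fun i => by
    show hbc.equiv ((b.baseChange Γ(X, V)) i) = _
    rw [Module.Basis.baseChange_apply, IsBaseChange.equiv_tmul, one_smul]
    show pullMap g M h (b i) = _
    rw [rs, pullMap_res g M le_rfl le_rfl h h, restr_self]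
  have e : (fun c : Fin n → Γ(X, V) => ∑ i, c i • rs _ h (pullMap g M le_rfl (b i))) = b'.equivFun.symm := by
    funext c
    rw [b'.equivFun_symm_apply]
    exact Finset.sum_congr rfl fun i _ => by rw [key]
  rw [e]
  exact b'.equivFun.symm.bijective

theorem basisOn_self (M : X.Modules) [Coh.IsQCoh M] {D : X.Opens} (hD : IsAffineOpen D)
    (b : Module.Basis (Fin n) Γ(X, D) Γ(M, D)) : BasisOn M D fun i => b i := by
  have h := (basisOn_pullMap (𝟙 X) M hD b).map_iso ((Scheme.Modules.pullbackId X).app M)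
  refine fun V hV => ?_
  refine Eq.subst (motive := fun F : (Fin n → Γ(X, V)) → Γ(M, V) => Function.Bijective F) ?_ (h V hV)
  funext c
  refine Finset.sum_congr rfl fun i _ => congrArg (c i • rs M hV ·) ?_
  exact (pullMap_id M le_rfl le_rfl (b i)).trans (restr_self M _ _)

end Groth.Agent.FlatDescHomLib
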