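import Groth.Agent.FlatDescHomLib.Basis
import Groth.Agent.PullbackMod.LocFree
import Groth.Agent.KVbLib.Rank

/-! Descent of morphisms of finite locally free modules from exactness of the structure sheaves. -/

set_option autoImplicit false
set_option backward.isDefEq.respectTransparency false
set_option linter.style.haveILetI false

universe u

open CategoryTheory CategoryTheory.Limits AlgebraicGeometry TopologicalSpace Opposite
open Groth.Agent.CohBase Groth.Agent.PullbackMod Groth.Agent.GenBCLib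

noncomputable section

namespace Groth.Agent.FlatDescHomLib

variable {X Y Z : Scheme.{u}}

theorem exists_basisOn (M : Y.Modules) (hM : FlatMod.IsFinLocFree M) (y : Y) :
    ∃ (D : Y.Opens) (_ : IsAffineOpen D) (n : ℕ), y ∈ D ∧ Nonempty (Module.Basis (Fin n) Γ(Y, D) Γ(M, D)) := by
  obtain ⟨D, hD, hy, ⟨e⟩⟩ := KVb.exists_free_sections hM y
  exact ⟨D, hD, _, hy, ⟨Module.Basis.ofEquivFun e⟩⟩

theorem congr_inv {p q : X ⟶ Y} (h : p = q) :
    (Scheme.Modules.pullbackCongr h).inv = (Scheme.Modules.pullbackCongr h.symm).hom := by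
  subst h; rfl

variable (p : Z ⟶ X) (f : X ⟶ Y) {q : Z ⟶ Y} (hq : p ≫ f = q) (M : Y.Modules)

/-- Inverse image of sections of `f^*M`, read in `q^*M`. -/
def trans (U : X.Opens) (O : Z.Opens) (e : O ≤ p ⁻¹ᵁ U) (a : Γ((Scheme.Modules.pullback f).obj M, U)) :
    Γ((Scheme.Modules.pullback q).obj M, O) :=
  ((Scheme.Modules.pullbackCongr hq).hom.app M).app O
    (((Scheme.Modules.pullbackComp p f).hom.app M).app O (pullMap p _ e a))

theorem trans_sum (U : X.Opens) (O : Z.Opens) (e : O ≤ p ⁻¹ᵁ U) {n : ℕ} (c : Fin n → Γ(X, U))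
    (a : Fin n → Γ((Scheme.Modules.pullback f).obj M, U)) :
    trans p f hq M U O e (∑ i, c i • a i) = ∑ i, p.appLE U O e (c i) • trans p f hq M U O e (a i) := by
  simp only [trans, map_sum, pullMap_smul, Scheme.Modules.Hom.app_smul]

theorem trans_pullMap {W : Y.Opens} (U : X.Opens) (O : Z.Opens) (e' : U ≤ f ⁻¹ᵁ W) (e : O ≤ p ⁻¹ᵁ U)
    (e'' : O ≤ q ⁻¹ᵁ W) (m : Γ(M, W)) :
    trans p f hq M U O e (pullMap f M e' m) = pullMap q M e'' m := by
  subst hq
  rw [trans, pullMap_comp p f M e' e e'']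
  exact pullMap_congr rfl M e'' e'' m

omit hq
variable (M : Y.Modules)

theorem rs_app {N N' : X.Modules} (φ : N ⟶ N') {U V : X.Opens} (h : V ≤ U) (m : Γ(N, U)) :
    rs N' h (φ.app U m) = φ.app V (rs N h m) := (appRes φ h m).symm

theorem pullMap_self_eq (V : Y.Opens) (m : Γ(M, V)) :
    pullMap f M (le_refl (f ⁻¹ᵁ V)) m =
      ((Scheme.Modules.pullbackPushforwardAdjunction f).unit.app M).app V m :=
  restr_self _ _ _

theorem pullMap_of_le {U V : Y.Opens} (h : V ≤ U) (m : Γ(M, U)) :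
    pullMap f M (le_refl (f ⁻¹ᵁ V)) (rs M h m) =
      rs _ (f.preimage_mono h) (pullMap f M (le_refl (f ⁻¹ᵁ U)) m) :=
  (pullMap_res f M le_rfl h (f.preimage_mono h) le_rfl m).symm

/-- The coefficients of `η(∑ c b)`. -/
theorem pullMap_comb {D W : Y.Opens} (hW : W ≤ D) {n : ℕ} (b : Fin n → Γ(M, D)) (d : Fin n → Γ(Y, W)) :
    pullMap f M (le_refl (f ⁻¹ᵁ W)) (∑ i, d i • rs M hW (b i)) =
      ∑ i, f.app W (d i) • rs _ (f.preimage_mono hW) (pullMap f M (le_refl (f ⁻¹ᵁ D)) (b i)) := by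
  rw [map_sum]
  refine Finset.sum_congr rfl fun i _ => ?_
  rw [pullMap_smul, pullMap_of_le f M hW, Scheme.Hom.appLE_eq_app]

section

variable {f} (hinj : ∀ U : Y.Opens, Function.Injective (f.app U)) (hM : FlatMod.IsFinLocFree M)

include hinj hM

theorem pullMap_injective (V : Y.Opens) : Function.Injective (pullMap f M (le_refl (f ⁻¹ᵁ V))) := by
  intro s t hst
  haveI := (isQCoh_and_isFP_of_isFinLocFree M hM).1
  refine sec_ext M fun y hy => ?_
  obtain ⟨D, hD, n, hyD, ⟨b⟩⟩ := exists_basisOn M hM y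
  refine ⟨V ⊓ D, inf_le_left, ⟨hy, hyD⟩, ?_⟩
  obtain ⟨c, hc⟩ := (basisOn_self M hD b (V ⊓ D) inf_le_right).2 (rs M inf_le_left s)
  obtain ⟨d, hd⟩ := (basisOn_self M hD b (V ⊓ D) inf_le_right).2 (rs M inf_le_left t)
  dsimp only at hc hd
  rw [← hc, ← hd]
  have e := congrArg (rs _ (f.preimage_mono (inf_le_left : V ⊓ D ≤ V))) hst
  rw [← pullMap_of_le f M (inf_le_left : V ⊓ D ≤ V) s, ← pullMap_of_le f M (inf_le_left : V ⊓ D ≤ V) t, ← hc, ← hd,
    pullMap_comb, pullMap_comb] at e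
  have := (basisOn_pullMap f M hD b (f ⁻¹ᵁ (V ⊓ D)) (f.preimage_mono inf_le_right)).1 e
  exact Finset.sum_congr rfl fun i _ => congrArg (· • _) (hinj _ (congrFun this i))

end

theorem comp_inv_pullMap {W : Y.Opens} (U : X.Opens) (O : Z.Opens) (e' : U ≤ f ⁻¹ᵁ W) (e : O ≤ p ⁻¹ᵁ U)
    (e'' : O ≤ (p ≫ f) ⁻¹ᵁ W) (s : Γ(M, W)) :
    ((Scheme.Modules.pullbackComp p f).inv.app M).app O (pullMap (p ≫ f) M e'' s) =
      pullMap p _ e (pullMap f M e' s) := by
  rw [← pullMap_comp p f M e' e e'' s]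
  exact congr($((Scheme.Modules.pullbackComp p f).hom_inv_id_app M).app _ _)

theorem side {L : Y.Modules} {M : Y.Modules} (φ : (Scheme.Modules.pullback f).obj L ⟶ (Scheme.Modules.pullback f).obj M)
    (W : Y.Opens) (O : Z.Opens) (e : O ≤ p ⁻¹ᵁ (f ⁻¹ᵁ W)) (e' : O ≤ (p ≫ f) ⁻¹ᵁ W) (s : Γ(L, W)) :
    ((Scheme.Modules.pullbackComp p f).hom.app M).app O
      (((Scheme.Modules.pullback p).map φ).app O
        (((Scheme.Modules.pullbackComp p f).inv.app L).app O (pullMap (p ≫ f) L e' s))) =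
      ((Scheme.Modules.pullbackComp p f).hom.app M).app O (pullMap p _ e (φ.app _ (pullMap f L le_rfl s))) :=
  congrArg (((Scheme.Modules.pullbackComp p f).hom.app M).app O)
    ((congrArg (((Scheme.Modules.pullback p).map φ).app O) (comp_inv_pullMap p f L (f ⁻¹ᵁ W) O le_rfl e e' s)).trans
      (pullMap_natural p φ e _))

/-- Compatible inverse images of an invariant map. -/
theorem trans_eq_of_cocycle {Z X Y : Scheme.{u}} (f : X ⟶ Y) (p₁ p₂ : Z ⟶ X) (hcond : p₁ ≫ f = p₂ ≫ f)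
    (L M : Y.Modules) (φ : (Scheme.Modules.pullback f).obj L ⟶ (Scheme.Modules.pullback f).obj M)
    (hφ : ((Scheme.Modules.pullbackComp p₁ f).app L).inv ≫ (Scheme.Modules.pullback p₁).map φ ≫
        ((Scheme.Modules.pullbackComp p₁ f).app M).hom =
      ((Scheme.Modules.pullbackCongr hcond).app L).hom ≫ ((Scheme.Modules.pullbackComp p₂ f).app L).inv ≫
        (Scheme.Modules.pullback p₂).map φ ≫ ((Scheme.Modules.pullbackComp p₂ f).app M).hom ≫
        ((Scheme.Modules.pullbackCongr hcond).app M).inv)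
    (W : Y.Opens) (O : Z.Opens) (e₁ : O ≤ p₁ ⁻¹ᵁ (f ⁻¹ᵁ W)) (e₂ : O ≤ p₂ ⁻¹ᵁ (f ⁻¹ᵁ W)) (s : Γ(L, W)) :
    trans p₁ f (rfl : p₁ ≫ f = p₁ ≫ f) M (f ⁻¹ᵁ W) O e₁ (φ.app _ (pullMap f L le_rfl s)) =
      trans p₂ f hcond.symm M (f ⁻¹ᵁ W) O e₂ (φ.app _ (pullMap f L le_rfl s)) := by
  have e₁' : O ≤ (p₁ ≫ f) ⁻¹ᵁ W := e₁
  have e₂' : O ≤ (p₂ ≫ f) ⁻¹ᵁ W := e₂
  have h := congr(($hφ).app O (pullMap (p₁ ≫ f) L e₁' s))
  simp only [Iso.app_hom, Iso.app_inv, Scheme.Modules.Hom.comp_app, ConcreteCategory.comp_apply] at h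
  rw [pullMap_congr hcond L e₁' e₂' s, congr_inv] at h
  exact ((side p₁ f φ W O e₁ e₁' s).symm.trans h).trans
    (congrArg (((Scheme.Modules.pullbackCongr hcond.symm).hom.app M).app O) (side p₂ f φ W O e₂ e₂' s))

theorem existsUnique_descend {X Y : Scheme.{u}} (f : X ⟶ Y)
    (hU : ∀ U : Y.Opens, (pullback.fst f f) ⁻¹ᵁ (f ⁻¹ᵁ U) = (pullback.snd f f) ⁻¹ᵁ (f ⁻¹ᵁ U))
    (hinj : ∀ U : Y.Opens, Function.Injective (f.app U))
    (hex : ∀ (U : Y.Opens) (a : Γ(X, f ⁻¹ᵁ U)),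
      (pullback.fst f f).app (f ⁻¹ᵁ U) a =
        ((pullback f f).presheaf.map (eqToHom (hU U)).op) ((pullback.snd f f).app (f ⁻¹ᵁ U) a) →
      a ∈ Set.range (f.app U))
    (L M : Y.Modules) (hM : FlatMod.IsFinLocFree M)
    (φ : (Scheme.Modules.pullback f).obj L ⟶ (Scheme.Modules.pullback f).obj M)
    (hφ : ((Scheme.Modules.pullbackComp (pullback.fst f f) f).app L).inv ≫
        (Scheme.Modules.pullback (pullback.fst f f)).map φ ≫ ((Scheme.Modules.pullbackComp (pullback.fst f f) f).app M).hom =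
      ((Scheme.Modules.pullbackCongr (pullback.condition (f := f) (g := f))).app L).hom ≫
        ((Scheme.Modules.pullbackComp (pullback.snd f f) f).app L).inv ≫
        (Scheme.Modules.pullback (pullback.snd f f)).map φ ≫ ((Scheme.Modules.pullbackComp (pullback.snd f f) f).app M).hom ≫
        ((Scheme.Modules.pullbackCongr (pullback.condition (f := f) (g := f))).app M).inv) :
    ∃! ψ : L ⟶ M, (Scheme.Modules.pullback f).map ψ = φ := by
  haveI := (isQCoh_and_isFP_of_isFinLocFree M hM).1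
  let adj := Scheme.Modules.pullbackPushforwardAdjunction f
  let p₁ := pullback.fst f f
  let p₂ := pullback.snd f f
  let q := p₁ ≫ f
  have hc : p₂ ≫ f = q := pullback.condition.symm
  have heq : ∀ (W : Y.Opens) (s : Γ(L, W)),
      trans p₁ f (rfl : p₁ ≫ f = q) M (f ⁻¹ᵁ W) (p₁ ⁻¹ᵁ (f ⁻¹ᵁ W)) le_rfl (φ.app _ (pullMap f L le_rfl s)) =
      trans p₂ f hc M (f ⁻¹ᵁ W) (p₁ ⁻¹ᵁ (f ⁻¹ᵁ W)) (hU W).le (φ.app _ (pullMap f L le_rfl s)) :=
    fun W s => trans_eq_of_cocycle f (pullback.fst f f) (pullback.snd f f) (pullback.condition (f := f) (g := f)) L M φ hφ W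
      _ le_rfl (hU W).le s
  have key : ∀ (V : Y.Opens) (s : Γ(L, V)), ∃ m : Γ(M, V), pullMap f M le_rfl m = φ.app _ (pullMap f L le_rfl s) := by
    intro V s
    have hloc : ∀ y : V, ∃ (W : Y.Opens) (hW : W ≤ V), y.1 ∈ W ∧
        ∃ m : Γ(M, W), pullMap f M le_rfl m = φ.app _ (pullMap f L le_rfl (rs L hW s)) := by
      intro y
      obtain ⟨D, hD, n, hyD, ⟨b⟩⟩ := exists_basisOn M hM y.1
      refine ⟨V ⊓ D, inf_le_left, ⟨y.2, hyD⟩, ?_⟩
      set W := V ⊓ D
      have hWD : W ≤ D := inf_le_right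
      obtain ⟨c, hc'⟩ := (basisOn_pullMap f M hD b (f ⁻¹ᵁ W) (f.preimage_mono hWD)).2
        (φ.app _ (pullMap f L le_rfl (rs L inf_le_left s)))
      dsimp only at hc'
      have h := heq W (rs L inf_le_left s)
      rw [← hc', trans_sum, trans_sum] at h
      have hbq : ∀ (p : pullback f f ⟶ X) (hp : p ≫ f = q) (e : p₁ ⁻¹ᵁ (f ⁻¹ᵁ W) ≤ p ⁻¹ᵁ (f ⁻¹ᵁ W)) (i : Fin n),
          trans p f hp M (f ⁻¹ᵁ W) (p₁ ⁻¹ᵁ (f ⁻¹ᵁ W)) e (rs _ (f.preimage_mono hWD) (pullMap f M le_rfl (b i))) =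
            rs _ (show p₁ ⁻¹ᵁ (f ⁻¹ᵁ W) ≤ q ⁻¹ᵁ D from p₁.preimage_mono (f.preimage_mono hWD))
              (pullMap q M le_rfl (b i)) := by
        intro p hp e i
        rw [← pullMap_of_le f M hWD (b i), trans_pullMap p f hp M _ _ le_rfl e (show _ ≤ q ⁻¹ᵁ W from le_rfl)]
        exact (pullMap_res q M le_rfl hWD _ le_rfl _).symm
      simp only [hbq] at h
      have hcoef := (basisOn_pullMap q M hD b _ _).1 h
      have hd : ∀ i, c i ∈ Set.range (f.app W) := fun i => hex W (c i) (by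
        have := congrFun hcoef i
        rw [Scheme.Hom.appLE_eq_app] at this
        exact this)
      choose d hd using hd
      refine ⟨∑ i, d i • rs M hWD (b i), ?_⟩
      rw [← hc', pullMap_comb]
      exact Finset.sum_congr rfl fun i _ => by rw [hd]
    choose W hW hy m hm using hloc
    obtain ⟨g, hg, -⟩ := TopCat.Sheaf.existsUnique_gluing' ⟨M.presheaf, M.isSheaf⟩ W V (fun y => homOfLE (hW y))
      (fun y hyV => Opens.mem_iSup.2 ⟨⟨y, hyV⟩, hy _⟩) m (fun y z => by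
        refine pullMap_injective M hinj hM _ ?_
        show pullMap f M le_rfl (rs M inf_le_left (m y)) = pullMap f M le_rfl (rs M inf_le_right (m z))
        rw [pullMap_of_le f M inf_le_left, pullMap_of_le f M inf_le_right, hm, hm]
        rw [rs_app φ, rs_app φ]
        refine congrArg _ ?_
        show rs _ _ (pullMap f L le_rfl _) = rs _ _ (pullMap f L le_rfl _)
        rw [← pullMap_of_le f L inf_le_left, ← pullMap_of_le f L inf_le_right, rs_rs, rs_rs])
    refine ⟨g, sec_ext _ fun x hx => ⟨f ⁻¹ᵁ W ⟨f x, hx⟩, f.preimage_mono (hW _), hy ⟨f x, hx⟩, ?_⟩⟩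
    rw [← pullMap_of_le f M (hW _), rs_app φ]
    show _ = φ.app _ (rs _ _ (pullMap f L le_rfl s))
    rw [← pullMap_of_le f L (hW _), ← hm]
    exact congrArg _ (hg _)
  choose ψ0 hψ0 using key
  let ψ : L ⟶ M := ⟨PresheafOfModules.homMk
    { app := fun V => AddCommGrpCat.ofHom
        { toFun := ψ0 V.unop
          map_zero' := pullMap_injective M hinj hM _ (by rw [hψ0]; simp only [map_zero])
          map_add' := fun s t => pullMap_injective M hinj hM _ (by simp only [hψ0, map_add]) }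
      naturality := fun V W i => AddCommGrpCat.hom_ext (AddMonoidHom.ext fun s => pullMap_injective M hinj hM _ (by
        show pullMap f M le_rfl (ψ0 W.unop (rs L i.unop.le s)) = pullMap f M le_rfl (rs M i.unop.le (ψ0 V.unop s))
        rw [hψ0, pullMap_of_le f M i.unop.le, hψ0, pullMap_of_le f L i.unop.le, rs, appRes])) }
    fun V (r : Γ(Y, V.unop)) (s : Γ(L, V.unop)) => pullMap_injective M hinj hM V.unop (by
      show pullMap f M le_rfl (ψ0 V.unop (r • s)) = pullMap f M le_rfl (r • ψ0 V.unop s)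
      rw [hψ0, pullMap_smul, pullMap_smul, hψ0, Scheme.Modules.Hom.app_smul])⟩
  have hψ : ∀ (V : Y.Opens) (s : Γ(L, V)), ψ.app V s = ψ0 V s := fun V s => rfl
  refine ⟨ψ, ?_, fun ψ' h => ?_⟩
  · refine (adj.homEquiv L _).injective (Scheme.Modules.hom_ext _ _ fun V => AddCommGrpCat.hom_ext (AddMonoidHom.ext fun s => ?_))
    rw [Adjunction.homEquiv_unit, Adjunction.homEquiv_unit]
    show ((Scheme.Modules.pullback f).map ψ).app (f ⁻¹ᵁ V) ((adj.unit.app L).app V s) = φ.app (f ⁻¹ᵁ V) ((adj.unit.app L).app V s)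
    rw [← pullMap_self_eq, pullMap_natural, hψ, hψ0]
  · refine Scheme.Modules.hom_ext _ _ fun V => AddCommGrpCat.hom_ext (AddMonoidHom.ext fun s => pullMap_injective M hinj hM V ?_)
    show pullMap f M le_rfl (ψ'.app V s) = pullMap f M le_rfl (ψ.app V s)
    rw [hψ, hψ0, ← pullMap_natural, h]

end Groth.Agent.FlatDescHomLib
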